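import Mathlib
import Cfsg.Agent.Helper19.HeOrd.Simple
import Cfsg.Agent.Helper17.HeCent.HeSide

/-!
# The outer automorphism group of the Held group: words, the elements `e`, `u`, `n`

The presented Held group `G` (helper17, helper19) acts faithfully on 2058 points; a word in the seven
generators is the identity if it fixes the four base points.  Here: tests for equalities of words, an element
`u` of order 17 (the word `b c d f`), an element `n` with `n u n⁻¹ = u ^ 8`, and the fact that the involution
`e` and `u` generate the group.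
-/

set_option autoImplicit false
set_option linter.all false
set_option maxRecDepth 100000

noncomputable section

namespace Cfsg.Agent.Helper14.HeOut

open Cfsg.Agent.Helper17 Cfsg.Agent.Helper17.HeTC Cfsg.Agent.Helper19.HeOrd

theorem perm_inv_apply_self {α : Type*} (f : Equiv.Perm α) (x : α) : f⁻¹ (f x) = x := f.symm_apply_apply x

theorem perm_apply_inv_self {α : Type*} (f : Equiv.Perm α) (x : α) : f (f⁻¹ x) = x := f.apply_symm_apply x

/-! ### Tests for equalities of words -/

/-- the letters of a word are generators -/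
def okW (w : List ℕ) : Bool := w.all fun l => decide (l < nl)

theorem okW_spec {w : List ℕ} (h : okW w = true) : ∀ l ∈ w, l < nl := by
  intro l hl
  have := List.all_eq_true.mp h l hl
  simpa using this

/-- two words have the same images of the base points -/
def eqBase (w w' : List ℕ) : Bool :=
  okW w && okW w' && [34, 15, 1, 0].all fun b => evalw w b == evalw w' b

theorem prodw_eq_of_eqBase {w w' : List ℕ} (h : eqBase w w' = true) : prodw w = prodw w' := by
  simp only [eqBase, Bool.and_eq_true, List.all_eq_true, beq_iff_eq] at h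
  obtain ⟨⟨h1, h2⟩, h3⟩ := h
  have e : (prodw w')⁻¹ * prodw w = 1 := by
    apply eq_one_of_fix
    intro b hb
    rw [map_mul, map_inv, Equiv.Perm.mul_apply, phi_prodw_apply _ (okW_spec h1), h3 b hb,
      ← phi_prodw_apply _ (okW_spec h2), perm_inv_apply_self]
  calc prodw w = prodw w' * ((prodw w')⁻¹ * prodw w) := by group
    _ = prodw w' := by rw [e, mul_one]

theorem prodw_ne_of_pt {w w' : List ℕ} (hw : okW w = true) (hw' : okW w' = true) (p : ℕ)
    (h : evalw w p ≠ evalw w' p) : prodw w ≠ prodw w' := by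
  intro e
  apply h
  rw [← phi_prodw_apply _ (okW_spec hw), ← phi_prodw_apply _ (okW_spec hw'), e]

theorem okW_append {w w' : List ℕ} (h : okW w = true) (h' : okW w' = true) : okW (w ++ w') = true := by
  unfold okW at *
  rw [List.all_append, h, h']
  rfl

theorem okW_reverse {w : List ℕ} (h : okW w = true) : okW w.reverse = true := by
  unfold okW at *
  rw [List.all_reverse]
  exact h

theorem pw_reverse (w : List ℕ) : prodw w.reverse = (prodw w)⁻¹ := HeCent.prodw_reverse w

/-! ### The elements -/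

/-- the involution `e` -/
def eG : G := gG 4

/-- the word of the element of order 17 -/
def uW : List ℕ := [1, 2, 3, 5]

/-- the element of order 17 -/
def uG : G := prodw uW

/-- the word of the normalising element -/
def nW : List ℕ := [6, 5, 3, 2, 6, 3, 2, 1, 3, 2, 3, 2, 3, 4, 3, 1, 2, 3, 5, 2, 3, 2]

/-- the normalising element -/
def nG : G := prodw nW

theorem eG_eq : eG = prodw [4] := (pw_single 4).symm

theorem eG_mul_self : eG * eG = 1 := gG_mul_self 4

theorem eG_inv : eG⁻¹ = eG := gG_inv 4

theorem uG_pow : uG ^ 17 = 1 := by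
  unfold uG
  rw [← pw_replicate]
  apply prodw_eq_one
  decide +kernel

theorem uG_ne_one : uG ≠ 1 := by
  have h : prodw uW ≠ prodw [] := prodw_ne_of_pt (by decide) (by decide) 0 (by decide +kernel)
  exact h

theorem orderOf_uG : orderOf uG = 17 := by
  have : Fact (Nat.Prime 17) := ⟨by norm_num⟩
  exact orderOf_eq_prime uG_pow uG_ne_one

theorem nG_conj : nG * uG * nG⁻¹ = uG ^ 8 := by
  have h1 : nG * uG * nG⁻¹ = prodw (nW.reverse ++ (uW ++ nW)) := by
    rw [pw_append, pw_append, pw_reverse]
    rfl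
  have h2 : uG ^ 8 = prodw (List.replicate 8 uW).flatten := (pw_replicate 8 uW).symm
  rw [h1, h2]
  apply prodw_eq_of_eqBase
  decide +kernel

/-! ### The two elements generate the group -/

/-- the blocks: `e`, `u`, `u⁻¹` -/
def blockW : ℕ → List ℕ
  | 0 => [4]
  | 1 => uW
  | _ => uW.reverse

/-- the word of a list of blocks -/
def flB : List ℕ → List ℕ
  | [] => []
  | b :: bs => blockW b ++ flB bs

theorem blockW_mem (b : ℕ) : prodw (blockW b) ∈ Subgroup.closure ({eG, uG} : Set G) := by
  match b with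
  | 0 =>
    show prodw [4] ∈ _
    rw [← eG_eq]
    exact Subgroup.subset_closure (by simp)
  | 1 => exact Subgroup.subset_closure (by simp [blockW, uG])
  | (k + 2) =>
    show prodw uW.reverse ∈ _
    rw [pw_reverse]
    exact Subgroup.inv_mem _ (Subgroup.subset_closure (by simp [uG]))

theorem flB_mem (bs : List ℕ) : prodw (flB bs) ∈ Subgroup.closure ({eG, uG} : Set G) := by
  induction bs with
  | nil => simp [flB, prodw, Subgroup.one_mem]
  | cons b bs ih =>
    rw [flB, pw_append]
    exact Subgroup.mul_mem _ ih (blockW_mem b)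

/-- the generators as words in `e` and `u` -/
def genExpr : ℕ → List ℕ
  | 0 => [2, 2, 2, 2, 2, 0, 2, 2, 0, 2, 0, 2, 2, 2, 0, 2, 0, 2, 2, 0, 2, 2, 2, 2, 2, 2, 0]
  | 1 => [1, 1, 0, 2, 2, 2, 0, 1, 0, 2, 2, 2, 0, 1, 1, 1, 0, 2, 0, 1, 1, 1, 0, 2, 2, 0]
  | 2 => [2, 2, 0, 1, 1, 1, 0, 2, 0, 1, 1, 1, 0, 2, 2, 2, 0, 1, 0, 2, 2, 2, 0, 1, 1, 0]
  | 3 => [0, 2, 0, 1, 0, 1, 0, 2, 0, 1, 1, 0, 2, 0, 1, 1]
  | 4 => [0]
  | 5 => [0, 1, 0, 2, 0, 1, 1, 0, 2, 0, 1, 1, 0, 2, 0, 1]
  | _ => [1, 1, 0, 2, 2, 2, 0, 1, 0, 1, 1, 0, 2, 0, 2, 0, 2, 0, 1, 1, 0, 1, 0, 2, 2, 2, 0, 1, 0, 1, 0, 2]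

theorem genExpr_ok : (List.range 7).all (fun l => eqBase [l] (flB (genExpr l))) = true := by
  decide +kernel

theorem gG_mem_closure {l : ℕ} (hl : l < nl) : gG l ∈ Subgroup.closure ({eG, uG} : Set G) := by
  have h := List.all_eq_true.mp genExpr_ok l (List.mem_range.mpr hl)
  rw [← pw_single, prodw_eq_of_eqBase h]
  exact flB_mem _

theorem closure_eG_uG : Subgroup.closure ({eG, uG} : Set G) = ⊤ := by
  rw [eq_top_iff, ← hgenG, Subgroup.closure_le]
  rintro g ⟨l, hl, rfl⟩
  exact gG_mem_closure hl

end Cfsg.Agent.Helper14.HeOut
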