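import Mathlib
import Cfsg.Agent.Helper14.HeOut.ClsTab

/-!
# The outer automorphism group of the Held group: the conjugates of the involution, definitions

The 187425 conjugates `t e t⁻¹` of the involution `e` are given by words `t` of at most seven codes of five
bits, packed in records of 48 bits: the length (3 bits), the index of a relator (2 bits), the index of a point
(1 bit), the codes.  The records come in chunks of 4000, sorted by the images of the four base points.  A
conjugate other than the seventeen conjugates under the powers of `u` violates one of three relators satisfied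
by `e` and `u`, at one of the points 0 and 1.
-/

set_option autoImplicit false
set_option linter.all false
set_option maxRecDepth 100000

namespace Cfsg.Agent.Helper14.HeOut

open Cfsg.Agent.Helper17 Cfsg.Agent.Helper17.HeTC Cfsg.Agent.Helper19.HeOrd

/-- the record with index `i` of a chunk -/
def recAt (D i : ℕ) : ℕ := Nat.land (Nat.shiftRight D (Nat.mul 48 i)) 281474976710655

def lenR (r : ℕ) : ℕ := Nat.land r 7

def relI (r : ℕ) : ℕ := Nat.land (Nat.shiftRight r 3) 3

def ptI (r : ℕ) : ℕ := Nat.land (Nat.shiftRight r 5) 1

def wR (r : ℕ) : ℕ := Nat.shiftRight r 6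

/-- the code with index `k` of a packed word -/
def letter (w k : ℕ) : ℕ := Nat.land (Nat.shiftRight w (Nat.mul 5 k)) 31

/-- the code of the inverse -/
def invL (c : ℕ) : ℕ := Bool.rec (motive := fun _ => ℕ) c (Nat.sub 47 c) (Nat.ble 16 c)

/-- the image of a point under the inverse of the word of the first `k` codes -/
def evRev (w k : ℕ) : ℕ → ℕ :=
  Nat.rec (motive := fun _ => ℕ → ℕ) (fun i => i) (fun k ih i => ih (lkp (invL (letter w k)) i)) k

/-- the image of a point under the word of the first `k` codes -/
def evFwd (w k : ℕ) : ℕ → ℕ :=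
  Nat.rec (motive := fun _ => ℕ → ℕ) (fun i => i) (fun k ih i => lkp (letter w k) (ih i)) k

/-- the image of a point under the conjugate of `e` by the word -/
def yEv (len w i : ℕ) : ℕ := evFwd w len (lkp 13 (evRev w len i))

def step0 (len w p : ℕ) : ℕ := yEv len w (lkp 16 (yEv len w (lkp 31 p)))

/-- the image of a point under the relator with index `r` -/
def relEv (r len w p : ℕ) : ℕ :=
  bif Nat.beq r 0 then step0 len w (step0 len w (step0 len w p))
  else bif Nat.beq r 1 then Nat.rec (motive := fun _ => ℕ) p (fun _ q => yEv len w (lkp 18 q)) 7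
  else Nat.rec (motive := fun _ => ℕ) p (fun _ q => yEv len w (lkp 23 q)) 6

/-- the images of the four base points, packed -/
def keyE (len w : ℕ) : ℕ :=
  Nat.add (yEv len w 0) (Nat.mul 4096 (Nat.add (yEv len w 1) (Nat.mul 4096 (Nat.add (yEv len w 15)
    (Nat.mul 4096 (yEv len w 34))))))

/-- the key of a record -/
def keyR (r : ℕ) : ℕ := keyE (lenR r) (wR r)

/-- the indices of the seventeen conjugates under the powers of `u` -/
def goodL : List ℕ :=
  [195, 1976, 8779, 9195, 14482, 19697, 24375, 61859, 83415, 95007, 107349, 123660, 127850, 135176, 146080,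
    171286, 179075]

/-- the test of a record: the relator is violated at the point, unless the index is one of the seventeen -/
def filtR (j r : ℕ) : Bool :=
  bif Nat.beq (relI r) 3 then goodL.contains j
  else !(Nat.beq (relEv (relI r) (lenR r) (wR r) (ptI r)) (ptI r))

/-- the test of a record, and of the order of the keys -/
def entryB (j r prev : ℕ) (cont : ℕ → Bool) : Bool :=
  forceN (keyR r) fun k => Nat.blt prev k && (filtR j r && cont k)

/-- the test of `n` records of a chunk from the index `i` on: the keys increase from `prev` to at most `hi` -/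
def loop (D base hi n : ℕ) : ℕ → ℕ → Bool :=
  Nat.rec (motive := fun _ => ℕ → ℕ → Bool) (fun _ prev => Nat.ble prev hi)
    (fun _ ih i prev => forceN (recAt D i) fun r => entryB (Nat.add base i) r prev (ih (Nat.add i 1))) n

theorem loop_zero (D base hi i prev : ℕ) : loop D base hi 0 i prev = Nat.ble prev hi := rfl

theorem loop_succ (D base hi n i prev : ℕ) : loop D base hi (n + 1) i prev =
    (Nat.blt prev (keyR (recAt D i)) && (filtR (base + i) (recAt D i) &&
      loop D base hi n (i + 1) (keyR (recAt D i)))) := rfl

theorem loop_spec (D base hi : ℕ) : ∀ n i prev, loop D base hi n i prev = true →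
    prev ≤ hi ∧ ∀ j, j < n → filtR (base + (i + j)) (recAt D (i + j)) = true ∧
      prev < keyR (recAt D (i + j)) ∧ keyR (recAt D (i + j)) ≤ hi ∧
      ∀ j', j' < j → keyR (recAt D (i + j')) < keyR (recAt D (i + j)) := by
  intro n
  induction n with
  | zero =>
    intro i prev h
    rw [loop_zero] at h
    exact ⟨Nat.le_of_ble_eq_true h, fun j hj => absurd hj (by omega)⟩
  | succ n ih =>
    intro i prev h
    rw [loop_succ, Bool.and_eq_true, Bool.and_eq_true] at h
    obtain ⟨h1, h2, h3⟩ := h
    have h1' : prev < keyR (recAt D i) := by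
      have : Nat.ble (prev + 1) (keyR (recAt D i)) = true := h1
      exact Nat.le_of_ble_eq_true this
    obtain ⟨h4, h5⟩ := ih (i + 1) (keyR (recAt D i)) h3
    refine ⟨by omega, ?_⟩
    intro j hj
    rcases Nat.eq_zero_or_pos j with rfl | hpos
    · refine ⟨h2, h1', h4, fun j' hj' => absurd hj' (by omega)⟩
    · obtain ⟨j0, rfl⟩ : ∃ j0, j = j0 + 1 := ⟨j - 1, by omega⟩
      have e : i + (j0 + 1) = i + 1 + j0 := by omega
      obtain ⟨g1, g2, g3, g4⟩ := h5 j0 (by omega)
      rw [e]
      refine ⟨g1, by omega, g3, ?_⟩
      intro j' hj'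
      rcases Nat.eq_zero_or_pos j' with rfl | hpos'
      · exact g2
      · obtain ⟨j1, rfl⟩ : ∃ j1, j' = j1 + 1 := ⟨j' - 1, by omega⟩
        have e' : i + (j1 + 1) = i + 1 + j1 := by omega
        rw [e']
        exact g4 j1 (by omega)

end Cfsg.Agent.Helper14.HeOut
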