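import Mathlib
import Cfsg.Agent.Helper14.HeOut.ClsDefs

/-!
# The outer automorphism group of the Held group: the meaning of the fast evaluation

The elements `letG c` of the group with the codes `c`, the element `tElem w k` of a packed word, the conjugate
`yElem len w` of `e` by it, and the relators `relG r y`; their permutations of the 2058 points are the functions
`lkp c`, `evFwd w k`, `yEv len w`, `relEv r len w`.
-/

set_option autoImplicit false
set_option linter.all false
set_option maxRecDepth 100000

noncomputable section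

namespace Cfsg.Agent.Helper14.HeOut

open Cfsg.Agent.Helper17 Cfsg.Agent.Helper17.HeTC Cfsg.Agent.Helper19.HeOrd

/-- the permutation of the element `g` is the function `f` on the points -/
def Rep (g : G) (f : ℕ → ℕ) : Prop := ∀ i, i < N → phi g i = f i

theorem Rep.lt {g : G} {f : ℕ → ℕ} (h : Rep g f) {i : ℕ} (hi : i < N) : f i < N := by
  rw [← h i hi]
  exact phi_lt g hi

theorem Rep.mul {g h : G} {f f' : ℕ → ℕ} (hg : Rep g f) (hh : Rep h f') :
    Rep (g * h) (fun i => f (f' i)) := by
  intro i hi
  rw [map_mul, Equiv.Perm.mul_apply, hh i hi]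
  exact hg _ (hh.lt hi)

theorem Rep.one : Rep 1 (fun i => i) := by
  intro i _
  rw [map_one]
  rfl

theorem Rep.pow {g : G} {f : ℕ → ℕ} (hg : Rep g f) (n : ℕ) :
    Rep (g ^ n) (fun p => Nat.rec (motive := fun _ => ℕ) p (fun _ q => f q) n) := by
  induction n with
  | zero =>
    rw [pow_zero]
    exact Rep.one
  | succ n ih =>
    rw [pow_succ']
    exact hg.mul ih

/-! ### The table -/

theorem lkp_lt {c i : ℕ} (hc : c < 32) (hi : i < 2058) : lkp c i < 2058 := by
  have h := allR_spec (allR_spec tab_lt c hc) i hi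
  have h' : Nat.ble (lkp c i + 1) 2058 = true := h
  exact Nat.le_of_ble_eq_true h'

theorem rep_id {c : ℕ} (hc : c < 9) : Rep 1 (lkp c) := by
  intro i hi
  have h := allR_spec (allR_spec tab_id c hc) i hi
  rw [map_one, Equiv.Perm.one_apply]
  exact (Nat.eq_of_beq_eq_true h).symm

theorem rep_gen {l : ℕ} (hl : l < 7) : Rep (gG l) (lkp (9 + l)) := by
  intro i hi
  have h := allR_spec (allR_spec tab_gen l hl) i hi
  have e : lkp (Nat.add 9 l) i = tb i l := Nat.eq_of_beq_eq_true h
  rw [phi_gG hl, σ_apply]
  unfold sg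
  rw [if_pos ⟨hl, hi⟩]
  exact e.symm

theorem okW_uW : okW uW = true := by decide

theorem rep_u : Rep uG (lkp 16) := by
  intro i hi
  have h := allR_spec tab_u i hi
  rw [uG, phi_prodw_apply _ (okW_spec okW_uW)]
  exact (Nat.eq_of_beq_eq_true h).symm

theorem rep_upow : ∀ k, k < 16 → Rep (uG ^ (k + 1)) (lkp (16 + k)) := by
  intro k
  induction k with
  | zero =>
    intro _
    rw [pow_one]
    exact rep_u
  | succ k ih =>
    intro hk
    have h1 := ih (by omega)
    intro i hi
    have h := allR_spec (allR_spec tab_up k (by omega)) i hi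
    have e : lkp (Nat.add 17 k) i = lkp 16 (lkp (Nat.add 16 k) i) := Nat.eq_of_beq_eq_true h
    rw [pow_succ', map_mul, Equiv.Perm.mul_apply, h1 i hi, rep_u _ (h1.lt hi)]
    have e2 : 16 + (k + 1) = Nat.add 17 k := by
      show 16 + (k + 1) = 17 + k
      omega
    rw [e2, e]
    rfl

/-- the element with the code `c` -/
def letG (c : ℕ) : G := if c < 9 then 1 else if c < 16 then gG (c - 9) else uG ^ (c - 15)

theorem rep_letG {c : ℕ} (hc : c < 32) : Rep (letG c) (lkp c) := by
  unfold letG
  split_ifs with h1 h2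
  · exact rep_id h1
  · have h := rep_gen (l := c - 9) (by omega)
    have e : 9 + (c - 9) = c := by omega
    rw [e] at h
    exact h
  · have h := rep_upow (c - 16) (by omega)
    have e1 : c - 16 + 1 = c - 15 := by omega
    have e2 : 16 + (c - 16) = c := by omega
    rw [e1, e2] at h
    exact h

theorem invL_eq (c : ℕ) : invL c = if c < 16 then c else 47 - c := by
  unfold invL
  cases hb : Nat.ble 16 c
  · have h : ¬ 16 ≤ c := fun h => by
      have h' : Nat.ble 16 c = true := Nat.ble_eq_true_of_le h
      rw [hb] at h'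
      exact Bool.noConfusion h'
    rw [if_pos (by omega)]
  · have h : 16 ≤ c := Nat.le_of_ble_eq_true hb
    rw [if_neg (by omega)]
    rfl

theorem invL_lt {c : ℕ} (hc : c < 32) : invL c < 32 := by
  rw [invL_eq]
  split_ifs <;> omega

theorem letG_invL {c : ℕ} (hc : c < 32) : letG (invL c) = (letG c)⁻¹ := by
  rw [invL_eq]
  split_ifs with h
  · unfold letG
    split_ifs with h1
    · simp
    · exact (gG_inv _).symm
  · have h1 : letG c = uG ^ (c - 15) := by
      unfold letG
      rw [if_neg (by omega), if_neg (by omega)]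
    have h2 : letG (47 - c) = uG ^ (32 - c) := by
      unfold letG
      rw [if_neg (by omega), if_neg (by omega)]
      congr 1
      omega
    rw [h1, h2, eq_inv_iff_mul_eq_one, ← pow_add]
    have e : 32 - c + (c - 15) = 17 := by omega
    rw [e, uG_pow]

theorem letter_lt (w k : ℕ) : letter w k < 32 := by
  unfold letter
  exact Nat.lt_of_le_of_lt Nat.and_le_right (by norm_num)

/-! ### Words and conjugates -/

/-- the element of the first `k` codes of a packed word -/
def tElem (w : ℕ) : ℕ → G
  | 0 => 1
  | k + 1 => letG (letter w k) * tElem w k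

theorem tElem_zero (w : ℕ) : tElem w 0 = 1 := rfl

theorem tElem_succ (w k : ℕ) : tElem w (k + 1) = letG (letter w k) * tElem w k := rfl

theorem rep_tElem (w : ℕ) : ∀ k, Rep (tElem w k) (evFwd w k) := by
  intro k
  induction k with
  | zero =>
    rw [tElem_zero]
    exact Rep.one
  | succ k ih =>
    rw [tElem_succ]
    exact (rep_letG (letter_lt w k)).mul ih

theorem rep_tElem_inv (w : ℕ) : ∀ k, Rep (tElem w k)⁻¹ (evRev w k) := by
  intro k
  induction k with
  | zero =>
    rw [tElem_zero, inv_one]
    exact Rep.one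
  | succ k ih =>
    rw [tElem_succ, mul_inv_rev, ← letG_invL (letter_lt w k)]
    exact ih.mul (rep_letG (invL_lt (letter_lt w k)))

/-- the conjugate of `e` by the element of a packed word -/
def yElem (len w : ℕ) : G := tElem w len * eG * (tElem w len)⁻¹

theorem rep_eG : Rep eG (lkp 13) := rep_gen (l := 4) (by norm_num)

theorem rep_yElem (len w : ℕ) : Rep (yElem len w) (yEv len w) :=
  ((rep_tElem w len).mul rep_eG).mul (rep_tElem_inv w len)

theorem yElem_zero (w : ℕ) : yElem 0 w = eG := by
  unfold yElem
  rw [tElem_zero, inv_one, mul_one, one_mul]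

theorem keyE_eq_of_yElem_eq {len w len' w' : ℕ} (h : yElem len w = yElem len' w') :
    keyE len w = keyE len' w' := by
  have e : ∀ i, i < N → yEv len w i = yEv len' w' i := by
    intro i hi
    rw [← rep_yElem len w i hi, ← rep_yElem len' w' i hi, h]
  unfold keyE
  rw [e 0 (by decide), e 1 (by decide), e 15 (by decide), e 34 (by decide)]

/-! ### The relators -/

/-- the relators, in the group -/
def relG : ℕ → G → G
  | 0, y => (y * uG * y * uG⁻¹) ^ 3
  | 1, y => (y * uG ^ 3) ^ 7
  | _, y => (y * uG ^ 8) ^ 6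

theorem rep_uinv : Rep uG⁻¹ (lkp 31) := by
  have h := rep_upow 15 (by norm_num)
  have e : uG ^ (15 + 1) = uG⁻¹ := by
    rw [eq_inv_iff_mul_eq_one, ← pow_succ]
    exact uG_pow
  rw [e] at h
  exact h

theorem rep_relG {r : ℕ} (hr : r < 3) (len w : ℕ) : Rep (relG r (yElem len w)) (relEv r len w) := by
  have hy := rep_yElem len w
  interval_cases r
  · have h1 : Rep (yElem len w * uG * yElem len w * uG⁻¹) (step0 len w) :=
      ((hy.mul rep_u).mul hy).mul rep_uinv
    exact h1.pow 3
  · have h1 : Rep (yElem len w * uG ^ 3) (fun q => yEv len w (lkp 18 q)) :=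
      hy.mul (rep_upow 2 (by norm_num))
    exact h1.pow 7
  · have h1 : Rep (yElem len w * uG ^ 8) (fun q => yEv len w (lkp 23 q)) :=
      hy.mul (rep_upow 7 (by norm_num))
    exact h1.pow 6

theorem rel_ok : allR 3 (fun r => Nat.beq (relEv r 0 0 0) 0 && (Nat.beq (relEv r 0 0 1) 1 &&
    (Nat.beq (relEv r 0 0 15) 15 && Nat.beq (relEv r 0 0 34) 34))) = true := by decide +kernel

theorem relG_eG {r : ℕ} (hr : r < 3) : relG r eG = 1 := by
  have h := allR_spec rel_ok r hr
  simp only [Bool.and_eq_true] at h
  obtain ⟨h0, h1, h15, h34⟩ := h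
  have hrep := rep_relG hr 0 0
  rw [yElem_zero] at hrep
  apply eq_one_of_fix
  intro b hb
  simp only [List.mem_cons, List.mem_singleton, List.not_mem_nil, or_false] at hb
  rcases hb with rfl | rfl | rfl | rfl
  · rw [hrep 34 (by decide)]
    exact Nat.eq_of_beq_eq_true h34
  · rw [hrep 15 (by decide)]
    exact Nat.eq_of_beq_eq_true h15
  · rw [hrep 1 (by decide)]
    exact Nat.eq_of_beq_eq_true h1
  · rw [hrep 0 (by decide)]
    exact Nat.eq_of_beq_eq_true h0

theorem map_relG (φ : MulAut G) (hφ : φ uG = uG) (r : ℕ) (y : G) : φ (relG r y) = relG r (φ y) := by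
  match r with
  | 0 => simp only [relG, map_pow, map_mul, map_inv, hφ]
  | 1 => simp only [relG, map_pow, map_mul, hφ]
  | (k + 2) => simp only [relG, map_pow, map_mul, hφ]

/-! ### The test of a record -/

theorem relI_lt (r : ℕ) : relI r < 4 := by
  unfold relI
  exact Nat.lt_of_le_of_lt Nat.and_le_right (by norm_num)

theorem ptI_lt (r : ℕ) : ptI r < N := by
  unfold ptI
  exact Nat.lt_of_le_of_lt Nat.and_le_right (by decide)

theorem filtR_spec {j r : ℕ} (h : filtR j r = true) :
    j ∈ goodL ∨ (relI r < 3 ∧ relEv (relI r) (lenR r) (wR r) (ptI r) ≠ ptI r) := by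
  unfold filtR at h
  cases hb : Nat.beq (relI r) 3
  · rw [hb] at h
    right
    have h3 : relI r ≠ 3 := by
      intro e
      rw [e] at hb
      exact absurd hb (by decide)
    have h4 := relI_lt r
    refine ⟨by omega, ?_⟩
    intro e
    have h' : (!(Nat.beq (relEv (relI r) (lenR r) (wR r) (ptI r)) (ptI r))) = true := h
    rw [e, Nat.beq_refl] at h'
    exact Bool.noConfusion h'
  · rw [hb] at h
    left
    have h' : goodL.contains j = true := h
    exact List.contains_iff_mem.mp h'

/-- a conjugate in the image of `e` under an automorphism fixing `u` passes no test of a relator -/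
theorem not_filt_of_aut (φ : MulAut G) (hφ : φ uG = uG) {r : ℕ} (hr : relI r < 3)
    (hy : φ eG = yElem (lenR r) (wR r)) : relEv (relI r) (lenR r) (wR r) (ptI r) = ptI r := by
  have h1 : relG (relI r) (φ eG) = 1 := by
    rw [← map_relG φ hφ, relG_eG hr, map_one]
  rw [hy] at h1
  rw [← rep_relG hr (lenR r) (wR r) (ptI r) (ptI_lt r), h1, map_one, Equiv.Perm.one_apply]

end Cfsg.Agent.Helper14.HeOut
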