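import Mathlib
import Cfsg.Agent.Helper14.HeOut.SylData

set_option autoImplicit false
set_option linter.all false
set_option maxRecDepth 100000

namespace Cfsg.Agent.Helper14.HeOut

open Cfsg.Agent.Helper17 Cfsg.Agent.Helper17.HeTC Cfsg.Agent.Helper19.HeOrd

theorem mt_ok1 : mtRow 1 = true := by decide +kernel

end Cfsg.Agent.Helper14.HeOut
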