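import Mathlib
import Cfsg.Agent.Helper14.HeOut.SylData

set_option autoImplicit false
set_option linter.all false
set_option maxRecDepth 100000

namespace Cfsg.Agent.Helper14.HeOut

open Cfsg.Agent.Helper17 Cfsg.Agent.Helper17.HeTC Cfsg.Agent.Helper19.HeOrd

theorem zc_ok : (List.range 1024).all (fun m => m == 0 || m == 512 ||
    (decide (zcA m / 4 < 10) &&
      (evalw (nfW m ++ sW (zcA m / 4)) ([34, 15, 1, 0].getD (zcA m % 4) 0) !=
        evalw (sW (zcA m / 4) ++ nfW m) ([34, 15, 1, 0].getD (zcA m % 4) 0)))) = true := by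
  decide +kernel

end Cfsg.Agent.Helper14.HeOut
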