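import Mathlib
import Cfsg.Agent.Helper14.HeOut.SylData
import Cfsg.Agent.Helper14.HeOut.SylMt0
import Cfsg.Agent.Helper14.HeOut.SylMt1
import Cfsg.Agent.Helper14.HeOut.SylMt2
import Cfsg.Agent.Helper14.HeOut.SylMt3
import Cfsg.Agent.Helper14.HeOut.SylMt4
import Cfsg.Agent.Helper14.HeOut.SylMt5
import Cfsg.Agent.Helper14.HeOut.SylMt6
import Cfsg.Agent.Helper14.HeOut.SylMt7
import Cfsg.Agent.Helper14.HeOut.SylMt8
import Cfsg.Agent.Helper14.HeOut.SylMt9
import Cfsg.Agent.Helper14.HeOut.SylOrd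
import Cfsg.Agent.Helper14.HeOut.SylZc
import Cfsg.Agent.Helper22.OutTwo2

/-!
# The outer automorphism group of the Held group: a Sylow 2-subgroup

The subgroup generated by the ten involutions `s k` has order 1024, its centre is generated by `e`, and so
every automorphism maps `e` to a conjugate.
-/

set_option autoImplicit false
set_option linter.all false
set_option maxRecDepth 100000

noncomputable section

namespace Cfsg.Agent.Helper14.HeOut

open Cfsg.Agent.Helper17 Cfsg.Agent.Helper17.HeTC Cfsg.Agent.Helper19.HeOrd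

/-- the generators of the subgroup -/
def sG (k : ℕ) : G := prodw (sW k)

theorem sW_okW {k : ℕ} (hk : k < 10) : okW (sW k) = true :=
  List.all_eq_true.mp sW_ok k (List.mem_range.mpr hk)

theorem sG_mul_self {k : ℕ} (hk : k < 10) : sG k * sG k = 1 := by
  have h := List.all_eq_true.mp sq_ok k (List.mem_range.mpr hk)
  have := prodw_eq_of_eqBase h
  rw [pw_append] at this
  exact this

theorem sG_inv {k : ℕ} (hk : k < 10) : (sG k)⁻¹ = sG k :=
  inv_eq_of_mul_eq_one_left (sG_mul_self hk)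

/-- the subgroup of order 1024 -/
def Sp : Subgroup G := Subgroup.closure {g | ∃ k, k < 10 ∧ g = sG k}

theorem sG_mem {k : ℕ} (hk : k < 10) : sG k ∈ Sp := Subgroup.subset_closure ⟨k, hk, rfl⟩

theorem okW_nfAux (m : ℕ) : ∀ k, k ≤ 10 → okW (nfAux k m) = true
  | 0, _ => rfl
  | k + 1, hk => by
    rw [nfAux]
    apply okW_append
    · split_ifs
      · exact sW_okW (by omega)
      · rfl
    · exact okW_nfAux m k (by omega)

theorem okW_nfW (m : ℕ) : okW (nfW m) = true := okW_nfAux m 10 le_rfl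

theorem nfAux_mem (m : ℕ) : ∀ k, k ≤ 10 → prodw (nfAux k m) ∈ Sp
  | 0, _ => Sp.one_mem
  | k + 1, hk => by
    rw [nfAux, pw_append]
    apply Sp.mul_mem (nfAux_mem m k (by omega))
    split_ifs
    · exact sG_mem (by omega)
    · exact Sp.one_mem

theorem nfW_mem (m : ℕ) : prodw (nfW m) ∈ Sp := nfAux_mem m 10 le_rfl

theorem mtRow_ok : ∀ k, k < 10 → mtRow k = true
  | 0, _ => mt_ok0
  | 1, _ => mt_ok1
  | 2, _ => mt_ok2
  | 3, _ => mt_ok3
  | 4, _ => mt_ok4
  | 5, _ => mt_ok5
  | 6, _ => mt_ok6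
  | 7, _ => mt_ok7
  | 8, _ => mt_ok8
  | 9, _ => mt_ok9
  | (k + 10), h => absurd h (by omega)

theorem mt_spec {k m : ℕ} (hk : k < 10) (hm : m < 1024) :
    mt k m < 1024 ∧ sG k * prodw (nfW m) = prodw (nfW (mt k m)) := by
  have h := List.all_eq_true.mp (mtRow_ok k hk) m (List.mem_range.mpr hm)
  rw [Bool.and_eq_true, decide_eq_true_eq] at h
  refine ⟨h.1, ?_⟩
  have := prodw_eq_of_eqBase h.2
  rw [pw_append] at this
  exact this

theorem nfW_zero : nfW 0 = [] := by decide +kernel

theorem nfW_e : nfW 512 = [4] := by decide +kernel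

theorem mem_Sp_nf {g : G} (hg : g ∈ Sp) : ∃ m, m < 1024 ∧ g = prodw (nfW m) := by
  unfold Sp at hg
  induction hg using Subgroup.closure_induction_left with
  | one => exact ⟨0, by norm_num, by rw [nfW_zero]; rfl⟩
  | mul_left x hx y _ ih =>
    obtain ⟨k, hk, rfl⟩ := hx
    obtain ⟨m, hm, rfl⟩ := ih
    exact ⟨mt k m, (mt_spec hk hm).1, (mt_spec hk hm).2⟩
  | inv_mul_cancel x hx y _ ih =>
    obtain ⟨k, hk, rfl⟩ := hx
    obtain ⟨m, hm, rfl⟩ := ih
    rw [sG_inv hk]
    exact ⟨mt k m, (mt_spec hk hm).1, (mt_spec hk hm).2⟩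

theorem keyW_eq {w w' : List ℕ} (hw : okW w = true) (hw' : okW w' = true) (h : prodw w = prodw w') :
    keyW w = keyW w' := by
  unfold keyW
  simp only [← phi_prodw_apply _ (okW_spec hw), ← phi_prodw_apply _ (okW_spec hw'), h]

theorem ord_step {i : ℕ} (hi : i < 1023) : keyW (nfW (ordA i)) < keyW (nfW (ordA (i + 1))) := by
  have h := List.all_eq_true.mp ord_ok i (List.mem_range.mpr hi)
  simpa using h

theorem ord_lt : ∀ j i : ℕ, i < j → j < 1024 → keyW (nfW (ordA i)) < keyW (nfW (ordA j)) := by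
  intro j
  induction j with
  | zero => intro i hi; omega
  | succ j ih =>
    intro i hi hj
    have h1 := ord_step (i := j) (by omega)
    rcases Nat.lt_succ_iff_lt_or_eq.mp hi with h | h
    · exact lt_trans (ih i h (by omega)) h1
    · rw [h]; exact h1

theorem pos_spec {m : ℕ} (hm : m < 1024) : posA m < 1024 ∧ ordA (posA m) = m := by
  have h := List.all_eq_true.mp pos_ok m (List.mem_range.mpr hm)
  simpa using h

theorem nf_inj {m m' : ℕ} (hm : m < 1024) (hm' : m' < 1024) (h : prodw (nfW m) = prodw (nfW m')) :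
    m = m' := by
  have hk := keyW_eq (okW_nfW m) (okW_nfW m') h
  obtain ⟨h1, h2⟩ := pos_spec hm
  obtain ⟨h1', h2'⟩ := pos_spec hm'
  rw [← h2, ← h2'] at hk
  rcases lt_trichotomy (posA m) (posA m') with hl | hl | hl
  · exact absurd hk (ne_of_lt (ord_lt _ _ hl h1'))
  · rw [← h2, ← h2', hl]
  · exact absurd hk.symm (ne_of_lt (ord_lt _ _ hl h1))

theorem card_Sp : Nat.card Sp = 1024 := by
  let f : Fin 1024 → Sp := fun m => ⟨prodw (nfW m.1), nfW_mem m.1⟩
  have hf : Function.Bijective f := by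
    constructor
    · intro m m' h
      exact Fin.ext (nf_inj m.2 m'.2 (congrArg Subtype.val h))
    · rintro ⟨g, hg⟩
      obtain ⟨m, hm, rfl⟩ := mem_Sp_nf hg
      exact ⟨⟨m, hm⟩, rfl⟩
  rw [← Nat.card_congr (Equiv.ofBijective f hf), Nat.card_eq_fintype_card, Fintype.card_fin]

theorem sG_nine : sG 9 = eG := by
  show prodw [4] = eG
  exact eG_eq.symm

theorem eG_mem_Sp : eG ∈ Sp := by
  rw [← sG_nine]; exact sG_mem (by norm_num)

theorem eG_comm_Sp : ∀ s ∈ Sp, s * eG = eG * s := by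
  have hle : Sp ≤ Subgroup.centralizer ({eG} : Set G) := by
    unfold Sp
    rw [Subgroup.closure_le]
    rintro g ⟨k, hk, rfl⟩
    rw [SetLike.mem_coe, Subgroup.mem_centralizer_iff]
    intro x hx
    rw [Set.mem_singleton_iff] at hx
    subst hx
    have h := List.all_eq_true.mp ecomm_ok k (List.mem_range.mpr hk)
    have := prodw_eq_of_eqBase h
    rw [pw_append] at this
    -- `prodw [4] * sG k = sG k * gG 4`
    show eG * sG k = sG k * eG
    rw [eG_eq]
    exact this
  intro s hs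
  have := Subgroup.mem_centralizer_iff.mp (hle hs) eG (Set.mem_singleton _)
  exact this.symm

theorem Sp_center (s : G) (hs : s ∈ Sp) (hc : ∀ t ∈ Sp, t * s = s * t) : s = 1 ∨ s = eG := by
  obtain ⟨m, hm, rfl⟩ := mem_Sp_nf hs
  have h := List.all_eq_true.mp zc_ok m (List.mem_range.mpr hm)
  rw [Bool.or_eq_true, Bool.or_eq_true, beq_iff_eq, beq_iff_eq] at h
  rcases h with (h | h) | h
  · left; rw [h, nfW_zero]; rfl
  · right; rw [h, nfW_e]; exact eG_eq.symm
  · exfalso
    rw [Bool.and_eq_true, decide_eq_true_eq, bne_iff_ne] at h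
    obtain ⟨hk, hne⟩ := h
    have e := hc (sG (zcA m / 4)) (sG_mem hk)
    have e1 : prodw (nfW m ++ sW (zcA m / 4)) = prodw (sW (zcA m / 4) ++ nfW m) := by
      rw [pw_append, pw_append]; exact e
    exact prodw_ne_of_pt (okW_append (okW_nfW m) (sW_okW hk)) (okW_append (sW_okW hk) (okW_nfW m)) _ hne e1

theorem factorization_G : (Nat.card G).factorization 2 = 10 := by
  rw [card_G, show 4030387200 = 2 ^ 10 * 3935925 by norm_num,
    Nat.factorization_mul (by norm_num) (by norm_num), Finsupp.add_apply,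
    Nat.Prime.factorization_pow Nat.prime_two,
    Nat.factorization_eq_zero_of_not_dvd (by norm_num : ¬ 2 ∣ 3935925)]
  simp

/-- an automorphism maps the involution `e` to a conjugate -/
theorem aut_eG (φ : MulAut G) : ∃ g : G, φ eG = g * eG * g⁻¹ := by
  haveI := finG
  have : Fact (Nat.Prime 2) := ⟨Nat.prime_two⟩
  exact Cfsg.Agent.Helper22.OutTwo.exists_conj_of_sylow_center 2 Sp
    (by rw [factorization_G, card_Sp]; norm_num) eG eG_mem_Sp eG_comm_Sp
    (fun s hs hc => Sp_center s hs hc) φ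

end Cfsg.Agent.Helper14.HeOut
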