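import Mathlib
import Cfsg.Agent.Helper14.HeOut.ClsSem
import Cfsg.Agent.Helper14.HeOut.Syl
import Cfsg.Agent.Helper14.J3OA
import Cfsg.Agent.Helper14.HeOut.Cls0
import Cfsg.Agent.Helper14.HeOut.Cls1
import Cfsg.Agent.Helper14.HeOut.Cls2
import Cfsg.Agent.Helper14.HeOut.Cls3
import Cfsg.Agent.Helper14.HeOut.Cls4
import Cfsg.Agent.Helper14.HeOut.Cls5
import Cfsg.Agent.Helper14.HeOut.Cls6
import Cfsg.Agent.Helper14.HeOut.Cls7
import Cfsg.Agent.Helper14.HeOut.Cls8
import Cfsg.Agent.Helper14.HeOut.Cls9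
import Cfsg.Agent.Helper14.HeOut.Cls10
import Cfsg.Agent.Helper14.HeOut.Cls11
import Cfsg.Agent.Helper14.HeOut.Cls12
import Cfsg.Agent.Helper14.HeOut.Cls13
import Cfsg.Agent.Helper14.HeOut.Cls14
import Cfsg.Agent.Helper14.HeOut.Cls15
import Cfsg.Agent.Helper14.HeOut.Cls16
import Cfsg.Agent.Helper14.HeOut.Cls17
import Cfsg.Agent.Helper14.HeOut.Cls18
import Cfsg.Agent.Helper14.HeOut.Cls19
import Cfsg.Agent.Helper14.HeOut.Cls20
import Cfsg.Agent.Helper14.HeOut.Cls21
import Cfsg.Agent.Helper14.HeOut.Cls22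
import Cfsg.Agent.Helper14.HeOut.Cls23
import Cfsg.Agent.Helper14.HeOut.Cls24
import Cfsg.Agent.Helper14.HeOut.Cls25
import Cfsg.Agent.Helper14.HeOut.Cls26
import Cfsg.Agent.Helper14.HeOut.Cls27
import Cfsg.Agent.Helper14.HeOut.Cls28
import Cfsg.Agent.Helper14.HeOut.Cls29
import Cfsg.Agent.Helper14.HeOut.Cls30
import Cfsg.Agent.Helper14.HeOut.Cls31
import Cfsg.Agent.Helper14.HeOut.Cls32
import Cfsg.Agent.Helper14.HeOut.Cls33
import Cfsg.Agent.Helper14.HeOut.Cls34
import Cfsg.Agent.Helper14.HeOut.Cls35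
import Cfsg.Agent.Helper14.HeOut.Cls36
import Cfsg.Agent.Helper14.HeOut.Cls37
import Cfsg.Agent.Helper14.HeOut.Cls38
import Cfsg.Agent.Helper14.HeOut.Cls39
import Cfsg.Agent.Helper14.HeOut.Cls40
import Cfsg.Agent.Helper14.HeOut.Cls41
import Cfsg.Agent.Helper14.HeOut.Cls42
import Cfsg.Agent.Helper14.HeOut.Cls43
import Cfsg.Agent.Helper14.HeOut.Cls44
import Cfsg.Agent.Helper14.HeOut.Cls45
import Cfsg.Agent.Helper14.HeOut.Cls46

/-!
# The outer automorphism group of the Held group: the conjugates of the involution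

The 187425 records give pairwise different conjugates of `e`; the centraliser of `e` has order 21504
(helper17), so these are all the conjugates.  An automorphism fixing `u` maps `e` to a conjugate satisfying
the three relators, hence to one of seventeen elements; so the group has at most twice as many automorphisms
as elements.
-/

set_option autoImplicit false
set_option linter.all false
set_option maxRecDepth 100000

noncomputable section

namespace Cfsg.Agent.Helper14.HeOut

open Cfsg.Agent.Helper17 Cfsg.Agent.Helper17.HeTC Cfsg.Agent.Helper19.HeOrd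

/-- the chunks of records -/
def cdatAll : ℕ → ℕ
  | 0 => cdat0
  | 1 => cdat1
  | 2 => cdat2
  | 3 => cdat3
  | 4 => cdat4
  | 5 => cdat5
  | 6 => cdat6
  | 7 => cdat7
  | 8 => cdat8
  | 9 => cdat9
  | 10 => cdat10
  | 11 => cdat11
  | 12 => cdat12
  | 13 => cdat13
  | 14 => cdat14
  | 15 => cdat15
  | 16 => cdat16
  | 17 => cdat17
  | 18 => cdat18
  | 19 => cdat19
  | 20 => cdat20
  | 21 => cdat21
  | 22 => cdat22
  | 23 => cdat23
  | 24 => cdat24
  | 25 => cdat25
  | 26 => cdat26
  | 27 => cdat27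
  | 28 => cdat28
  | 29 => cdat29
  | 30 => cdat30
  | 31 => cdat31
  | 32 => cdat32
  | 33 => cdat33
  | 34 => cdat34
  | 35 => cdat35
  | 36 => cdat36
  | 37 => cdat37
  | 38 => cdat38
  | 39 => cdat39
  | 40 => cdat40
  | 41 => cdat41
  | 42 => cdat42
  | 43 => cdat43
  | 44 => cdat44
  | 45 => cdat45
  | _ => cdat46

/-- the number of records of a chunk -/
def csize (c : ℕ) : ℕ := if c = 46 then 3425 else 4000

/-- the last key of a chunk -/
def hiC : ℕ → ℕ
  | 0 => 2346763753018
  | 1 => 3383686395112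
  | 2 => 6343618777219
  | 3 => 9436805781038
  | 4 => 12858816180468
  | 5 => 16101482329152
  | 6 => 19254037746824
  | 7 => 22611242267024
  | 8 => 26185213047670
  | 9 => 29347184325106
  | 10 => 32400496710722
  | 11 => 35612241432864
  | 12 => 38843083007671
  | 13 => 41668100822882
  | 14 => 44624951039292
  | 15 => 47498514018533
  | 16 => 50310945387934
  | 17 => 53201947186413
  | 18 => 56023963645313
  | 19 => 58926939047290
  | 20 => 62338215355311
  | 21 => 65313657312604
  | 22 => 68172496078343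
  | 23 => 71402456921411
  | 24 => 74702653068633
  | 25 => 77383784931368
  | 26 => 80833605183174
  | 27 => 83994615269247
  | 28 => 86936816395879
  | 29 => 89837986046147
  | 30 => 92914391028274
  | 31 => 95947875099708
  | 32 => 98972660253685
  | 33 => 101857584650050
  | 34 => 104596449714700
  | 35 => 107561802457668
  | 36 => 111262319231567
  | 37 => 114175098172966
  | 38 => 116980604130232
  | 39 => 119917756207748
  | 40 => 123293396444512
  | 41 => 126545979188993
  | 42 => 129887481975119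
  | 43 => 132518019334220
  | 44 => 135336855258286
  | 45 => 138816906506495
  | 46 => 141390179407807
  | _ => 0

/-- the last key of the chunk before -/
def loC : ℕ → ℕ
  | 0 => 0
  | c + 1 => hiC c

/-- the record with a given index -/
def recG (j : ℕ) : ℕ := recAt (cdatAll (j / 4000)) (j % 4000)

theorem chunk_all : ∀ c, c < 47 → loop (cdatAll c) (c * 4000) (hiC c) (csize c) 0 (loC c) = true
  | 0, _ => chunk0
  | 1, _ => chunk1
  | 2, _ => chunk2
  | 3, _ => chunk3
  | 4, _ => chunk4
  | 5, _ => chunk5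
  | 6, _ => chunk6
  | 7, _ => chunk7
  | 8, _ => chunk8
  | 9, _ => chunk9
  | 10, _ => chunk10
  | 11, _ => chunk11
  | 12, _ => chunk12
  | 13, _ => chunk13
  | 14, _ => chunk14
  | 15, _ => chunk15
  | 16, _ => chunk16
  | 17, _ => chunk17
  | 18, _ => chunk18
  | 19, _ => chunk19
  | 20, _ => chunk20
  | 21, _ => chunk21
  | 22, _ => chunk22
  | 23, _ => chunk23
  | 24, _ => chunk24
  | 25, _ => chunk25
  | 26, _ => chunk26
  | 27, _ => chunk27
  | 28, _ => chunk28
  | 29, _ => chunk29
  | 30, _ => chunk30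
  | 31, _ => chunk31
  | 32, _ => chunk32
  | 33, _ => chunk33
  | 34, _ => chunk34
  | 35, _ => chunk35
  | 36, _ => chunk36
  | 37, _ => chunk37
  | 38, _ => chunk38
  | 39, _ => chunk39
  | 40, _ => chunk40
  | 41, _ => chunk41
  | 42, _ => chunk42
  | 43, _ => chunk43
  | 44, _ => chunk44
  | 45, _ => chunk45
  | 46, _ => chunk46
  | (c + 47), h => absurd h (by omega)

theorem chunk_spec {c : ℕ} (hc : c < 47) {i : ℕ} (hi : i < csize c) :
    filtR (c * 4000 + i) (recAt (cdatAll c) i) = true ∧ loC c < keyR (recAt (cdatAll c) i) ∧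
      keyR (recAt (cdatAll c) i) ≤ hiC c ∧
      ∀ i', i' < i → keyR (recAt (cdatAll c) i') < keyR (recAt (cdatAll c) i) := by
  have h := (loop_spec _ _ _ _ _ _ (chunk_all c hc)).2 i hi
  simp only [Nat.zero_add] at h
  exact h

theorem csize_pos (c : ℕ) : 0 < csize c := by
  unfold csize
  split_ifs <;> norm_num

theorem hiC_lt {c : ℕ} (hc : c < 46) : hiC c < hiC (c + 1) := by
  obtain ⟨_, h1, h2, _⟩ := chunk_spec (c := c + 1) (by omega) (csize_pos _)
  exact lt_of_lt_of_le h1 h2

theorem hiC_mono : ∀ c' c : ℕ, c ≤ c' → c' < 47 → hiC c ≤ hiC c' := by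
  intro c'
  induction c' with
  | zero =>
    intro c hc _
    have : c = 0 := by omega
    rw [this]
  | succ c' ih =>
    intro c hc hc'
    rcases Nat.lt_succ_iff_lt_or_eq.mp (Nat.lt_succ_of_le hc) with h | h
    · exact le_trans (ih c (by omega) (by omega)) (le_of_lt (hiC_lt (by omega)))
    · rw [h]

theorem lt_csize {j : ℕ} (hj : j < 187425) : j % 4000 < csize (j / 4000) := by
  unfold csize
  split_ifs with h
  · omega
  · omega

theorem key_lt {j j' : ℕ} (hjj : j < j') (hj' : j' < 187425) : keyR (recG j) < keyR (recG j') := by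
  unfold recG
  have hc' : j' / 4000 < 47 := by omega
  have hc : j / 4000 < 47 := by omega
  rcases Nat.lt_or_ge (j / 4000) (j' / 4000) with hlt | hge
  · obtain ⟨_, _, h2, _⟩ := chunk_spec hc (lt_csize (by omega : j < 187425))
    obtain ⟨_, h1', _, _⟩ := chunk_spec hc' (lt_csize hj')
    obtain ⟨c'', hc''⟩ : ∃ c'', j' / 4000 = c'' + 1 := ⟨j' / 4000 - 1, by omega⟩
    rw [hc''] at h1' hc'
    have h3 : hiC (j / 4000) ≤ hiC c'' := hiC_mono c'' (j / 4000) (by omega) (by omega)
    have h4 : loC (c'' + 1) = hiC c'' := rfl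
    rw [h4] at h1'
    rw [hc'']
    omega
  · have he : j / 4000 = j' / 4000 := by omega
    obtain ⟨_, _, _, h3⟩ := chunk_spec hc' (lt_csize hj')
    rw [he]
    exact h3 (j % 4000) (by omega)

theorem filt_spec {j : ℕ} (hj : j < 187425) : filtR j (recG j) = true := by
  have hc : j / 4000 < 47 := by omega
  obtain ⟨h, _⟩ := chunk_spec hc (lt_csize hj)
  have e : j / 4000 * 4000 + j % 4000 = j := by omega
  rw [e] at h
  exact h

/-! ### The conjugates -/

/-- the conjugate with a given index -/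
def yG (j : ℕ) : G := yElem (lenR (recG j)) (wR (recG j))

theorem yG_inj {j j' : ℕ} (hj : j < 187425) (hj' : j' < 187425) (h : yG j = yG j') : j = j' := by
  have hk : keyR (recG j) = keyR (recG j') := keyE_eq_of_yElem_eq h
  rcases lt_trichotomy j j' with hl | hl | hl
  · exact absurd hk (ne_of_lt (key_lt hl hj'))
  · exact hl
  · exact absurd hk.symm (ne_of_lt (key_lt hl hj))

theorem card_class_eG : Nat.card (Set.range fun g : G => g * eG * g⁻¹) ≤ 187425 := by
  haveI := finG
  exact Cfsg.Agent.Helper14.J3Out.card_class_le 21504 187425 (by norm_num) (by rw [card_G]) eG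
    HeCent.CH HeCent.card_CH le_rfl

/-- the conjugates of `e` are listed -/
theorem conj_enum (g : G) : ∃ j, j < 187425 ∧ g * eG * g⁻¹ = yG j := by
  haveI := finG
  let f : Fin 187425 → Set.range fun g : G => g * eG * g⁻¹ :=
    fun j => ⟨yG j.1, ⟨tElem (wR (recG j.1)) (lenR (recG j.1)), rfl⟩⟩
  have hf : Function.Injective f := by
    intro j j' h
    exact Fin.ext (yG_inj j.2 j'.2 (congrArg Subtype.val h))
  have hb : Function.Bijective f := by
    apply Function.Injective.bijective_of_nat_card_le hf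
    have e : Nat.card (Fin 187425) = 187425 := by simp
    rw [e]
    exact card_class_eG
  obtain ⟨j, hj⟩ := hb.2 ⟨g * eG * g⁻¹, ⟨g, rfl⟩⟩
  exact ⟨j.1, j.2, (congrArg Subtype.val hj).symm⟩

open Classical in
/-- the possible images of `e` under the automorphisms fixing `u` -/
def goodSet : Finset G := (goodL.map yG).toFinset

theorem card_goodSet : goodSet.card ≤ 17 := by
  classical
  calc goodSet.card ≤ (goodL.map yG).length := List.toFinset_card_le _
    _ = 17 := by rw [List.length_map]; rfl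

theorem stab_uG (φ : MulAut G) (hφ : φ uG = uG) : φ eG ∈ goodSet := by
  obtain ⟨g, hg⟩ := aut_eG φ
  obtain ⟨j, hj, e⟩ := conj_enum g
  rw [e] at hg
  have hj17 : j ∈ goodL := by
    rcases filtR_spec (filt_spec hj) with h | ⟨h1, h2⟩
    · exact h
    · exact absurd (not_filt_of_aut φ hφ h1 hg) h2
  classical
  unfold goodSet
  rw [List.mem_toFinset, List.mem_map]
  exact ⟨j, hj17, hg.symm⟩

theorem residues_17 : ∀ k, 0 < k → k < 17 → ∃ j, k % 17 = 8 ^ j % 17 ∨ k % 17 = (3 * 8 ^ j) % 17 := by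
  intro k h0 h17
  interval_cases k
  · exact ⟨0, Or.inl (by norm_num)⟩
  · exact ⟨3, Or.inl (by norm_num)⟩
  · exact ⟨0, Or.inr (by norm_num)⟩
  · exact ⟨6, Or.inl (by norm_num)⟩
  · exact ⟨2, Or.inr (by norm_num)⟩
  · exact ⟨3, Or.inr (by norm_num)⟩
  · exact ⟨1, Or.inr (by norm_num)⟩
  · exact ⟨1, Or.inl (by norm_num)⟩
  · exact ⟨5, Or.inl (by norm_num)⟩
  · exact ⟨5, Or.inr (by norm_num)⟩
  · exact ⟨7, Or.inr (by norm_num)⟩
  · exact ⟨6, Or.inr (by norm_num)⟩
  · exact ⟨2, Or.inl (by norm_num)⟩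
  · exact ⟨4, Or.inr (by norm_num)⟩
  · exact ⟨7, Or.inl (by norm_num)⟩
  · exact ⟨4, Or.inl (by norm_num)⟩

/-- the group has at most twice as many automorphisms as elements -/
theorem card_mulAut_G : Nat.card (MulAut G) ≤ 2 * Nat.card G := by
  haveI := finG
  have : Fact (Nat.Prime 17) := ⟨by norm_num⟩
  exact Cfsg.Agent.Helper22.OutTwo.card_mulAut_le_gen 17 237081600 17 237081600 3
    (by rw [card_G]) (by norm_num) (by norm_num) (by rw [card_G]) eG uG nG uG closure_eG_uG orderOf_uG
    orderOf_uG rfl 8 nG_conj residues_17 goodSet card_goodSet stab_uG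

end Cfsg.Agent.Helper14.HeOut
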