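import Mathlib
import Cfsg.Agent.Helper14.HeOut.OuterData
import Cfsg.Prelude.Def_KGroupFacts

/-!
# The outer automorphism group of the Held group: an outer automorphism

The words `tauW l` satisfy the relators, so there is an endomorphism `τ` of the presented group mapping the
generators to these words; it is bijective because the group is simple.  It is not inner: an element `h`
inducing it would act as `π` on the points (the centraliser of a transitive group whose point stabiliser fixes
a single point is trivial), so it would lie in the stabiliser of the point 0, but `π` exchanges two orbits of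
this stabiliser.
-/

set_option autoImplicit false
set_option linter.all false
set_option maxRecDepth 100000

noncomputable section

namespace Cfsg.Agent.Helper14.HeOut

open Cfsg.Spor Cfsg.Agent.Helper17 Cfsg.Agent.Helper17.HeTC Cfsg.Agent.Helper19.HeOrd

/-! ### The endomorphism -/

/-- the images of the generators -/
def tG (l : ℕ) : G := prodw (tauW l)

def fT (x : Gn) : G := tG (idx x)

theorem idx_lt7 (x : Gn) : idx x < 7 := by cases x <;> decide

theorem cox_T (i j : ℕ) (hi : i < 7) (hj : j < 7) : (tG i * tG j) ^ labH i j = 1 := by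
  have h := cox_okT
  simp only [List.all_eq_true, List.mem_range] at h
  have h1 := prodw_eq_one (h i hi j hj)
  rw [pw_replicate, pw_append] at h1
  exact h1

theorem extra_T : tG 4 = (tG 5 * tG 6) ^ 2 ∧ tG 4 = (tG 0 * tG 1 * tG 2) ^ 3 ∧ tG 0 = (tG 2 * tG 3) ^ 5 ∧
    (tG 2 * tG 3 * tG 5 * tG 6) ^ 4 = 1 := by
  have h := extra_okT
  simp only [Bool.and_eq_true] at h
  obtain ⟨⟨⟨h1, h2⟩, h3⟩, h4⟩ := h
  refine ⟨?_, ?_, ?_, ?_⟩
  · have := prodw_eq_of_eqBase h1
    rw [pw_replicate, pw_append] at this
    exact this
  · have := prodw_eq_of_eqBase h2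
    rw [pw_replicate, pw_append, pw_append] at this
    exact this
  · have := prodw_eq_of_eqBase h3
    rw [pw_replicate, pw_append] at this
    exact this
  · have := prodw_eq_one h4
    rw [pw_replicate, pw_append, pw_append, pw_append] at this
    exact this

theorem relT : ∀ r ∈ Rels, FreeGroup.lift fT r = 1 := by
  intro r hr
  rcases hr with ⟨x, _, y, _, rfl⟩ | hr
  · rw [map_pow, map_mul, FreeGroup.lift_apply_of, FreeGroup.lift_apply_of, lab_eq]
    exact cox_T _ _ (idx_lt7 x) (idx_lt7 y)
  · simp only [Set.mem_setOf_eq, He.extra, List.mem_cons, List.mem_singleton, List.not_mem_nil,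
      or_false] at hr
    obtain ⟨e1, e2, e3, e4⟩ := extra_T
    rcases hr with rfl | rfl | rfl | rfl
    · simp only [map_mul, map_inv, map_pow, FreeGroup.lift_apply_of, fT, idx]
      rw [← e1, mul_inv_cancel]
    · simp only [map_mul, map_inv, map_pow, FreeGroup.lift_apply_of, fT, idx]
      rw [← e2, mul_inv_cancel]
    · simp only [map_mul, map_inv, map_pow, FreeGroup.lift_apply_of, fT, idx]
      rw [← e3, mul_inv_cancel]
    · simp only [map_mul, map_inv, map_pow, FreeGroup.lift_apply_of, fT, idx]
      exact e4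

/-- the endomorphism -/
def tau0 : G →* G := PresentedGroup.toGroup relT

theorem tau0_gG {l : ℕ} (hl : l < nl) : tau0 (gG l) = tG l := by
  unfold gG tau0
  rw [PresentedGroup.toGroup.of, fT, idx_gen hl]

theorem tau0_injective : Function.Injective tau0 := by
  haveI := isSimple
  rw [← MonoidHom.ker_eq_bot_iff]
  rcases (inferInstance : tau0.ker.Normal).eq_bot_or_eq_top with h | h
  · exact h
  · exfalso
    have h1 : gG 4 ∈ tau0.ker := by rw [h]; exact Subgroup.mem_top _
    rw [MonoidHom.mem_ker, tau0_gG (by decide)] at h1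
    have h2 : prodw (tauW 4) ≠ prodw [] :=
      prodw_ne_of_pt (List.all_eq_true.mp tauW_ok 4 (by decide)) (by decide) 1 (by decide +kernel)
    exact h2 h1

theorem tau0_bijective : Function.Bijective tau0 := by
  haveI := finG
  exact Finite.injective_iff_bijective.mp tau0_injective

/-- the automorphism -/
def tauE : MulAut G := MulEquiv.ofBijective tau0 tau0_bijective

theorem tauE_apply (g : G) : tauE g = tau0 g := rfl

/-! ### The permutation -/

theorem piA_spec {i : ℕ} (hi : i < N) : piA i < N ∧ piIA (piA i) = i ∧ piIA i < N ∧ piA (piIA i) = i := by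
  have h := List.all_eq_true.mp pi_inv_ok i (List.mem_range.mpr hi)
  simp only [Bool.and_eq_true, decide_eq_true_eq, beq_iff_eq] at h
  exact ⟨h.1.1.1, h.1.1.2, h.1.2, h.2⟩

def piF (i : ℕ) : ℕ := if i < N then piA i else i

def piIF (i : ℕ) : ℕ := if i < N then piIA i else i

theorem piIF_piF (i : ℕ) : piIF (piF i) = i := by
  unfold piF piIF
  by_cases h : i < N
  · rw [if_pos h, if_pos (piA_spec h).1, (piA_spec h).2.1]
  · rw [if_neg h, if_neg h]

theorem piF_piIF (i : ℕ) : piF (piIF i) = i := by
  unfold piF piIF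
  by_cases h : i < N
  · rw [if_pos h, if_pos (piA_spec h).2.2.1, (piA_spec h).2.2.2]
  · rw [if_neg h, if_neg h]

/-- the permutation of the points -/
def piP : Equiv.Perm ℕ := ⟨piF, piIF, piIF_piF, piF_piIF⟩

theorem piP_apply (i : ℕ) : piP i = piF i := rfl

theorem piP_lt {i : ℕ} (hi : i < N) : piP i < N := by
  rw [piP_apply, piF, if_pos hi]; exact (piA_spec hi).1

theorem piP_ge {i : ℕ} (hi : N ≤ i) : piP i = i := by
  rw [piP_apply, piF, if_neg (by omega)]

theorem piP_conj {l : ℕ} (hl : l < nl) (i : ℕ) : piP (σ l i) = permw (tauW l) (piP i) := by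
  rw [permw_apply, σ_apply]
  by_cases hi : i < N
  · have h := List.all_eq_true.mp (List.all_eq_true.mp pi_conj_ok l (List.mem_range.mpr hl)) i
      (List.mem_range.mpr hi)
    rw [beq_iff_eq] at h
    rw [piP_apply, piP_apply, piF, piF, if_pos (sg_lt hi), if_pos hi]
    exact h
  · rw [sg_ge (not_lt.mp hi), piP_ge (not_lt.mp hi), evalw_ge _ (not_lt.mp hi)]

/-! ### The automorphism is not inner -/

theorem tauE_not_inner : tauE ∉ Cfsg.Inn G := by
  rintro ⟨h, hh⟩
  have hconj : ∀ g : G, h * g * h⁻¹ = tau0 g := by
    intro g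
    have e : MulAut.conj h g = tauE g := by rw [hh]
    rw [MulAut.conj_apply, tauE_apply] at e
    exact e
  -- the permutation `c` commutes with the generators
  have hgen : ∀ l, l < nl → ∀ i, phi h (σ l i) = permw (tauW l) (phi h i) := by
    intro l hl i
    have e : phi (h * gG l * h⁻¹) = permw (tauW l) := by
      rw [hconj, tau0_gG hl, tG, phi_prodw _ (okW_spec (List.all_eq_true.mp tauW_ok l (List.mem_range.mpr hl)))]
    have e2 : phi h * σ l = permw (tauW l) * phi h := by
      rw [← e, map_mul, map_mul, phi_gG hl, map_inv]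
      group
    have e3 := congrArg (fun f : Equiv.Perm ℕ => f i) e2
    exact e3
  obtain ⟨c, hc⟩ : ∃ c : Equiv.Perm ℕ, ∀ i, c i = piP⁻¹ (phi h i) := ⟨piP⁻¹ * phi h, fun i => rfl⟩
  have hc_gen : ∀ l, l < nl → ∀ i, c (σ l i) = σ l (c i) := by
    intro l hl i
    rw [hc, hc, hgen l hl, Equiv.Perm.inv_eq_iff_eq, piP_conj hl, perm_apply_inv_self]
  have hc_all : ∀ g : G, ∀ i, c (phi g i) = phi g (c i) := by
    intro g
    have hmem : g ∈ Subgroup.closure {g : G | ∃ l, l < nl ∧ g = gG l} := by rw [hgenG]; exact Subgroup.mem_top _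
    induction hmem using Subgroup.closure_induction with
    | mem x hx =>
      obtain ⟨l, hl, rfl⟩ := hx
      intro i
      rw [phi_gG hl]
      exact hc_gen l hl i
    | one =>
      intro i
      rw [map_one, Equiv.Perm.one_apply, Equiv.Perm.one_apply]
    | mul x y _ _ hx hy =>
      intro i
      simp only [map_mul, Equiv.Perm.mul_apply, hx, hy]
    | inv x _ hx =>
      intro i
      rw [map_inv]
      symm
      rw [Equiv.Perm.inv_eq_iff_eq, ← hx, perm_apply_inv_self]
  have hc_lt : ∀ i, i < N → c i < N := by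
    intro i hi
    rw [hc]
    have h1 : phi h i < N := phi_lt h hi
    by_contra hcon
    have h2 := piP_ge (not_lt.mp hcon)
    rw [perm_apply_inv_self] at h2
    omega
  have hc_ge : ∀ i, N ≤ i → c i = i := by
    intro i hi
    rw [hc, phi_ge h hi, Equiv.Perm.inv_eq_iff_eq, piP_ge hi]
  have hc0 : c 0 = 0 := by
    have hlt : c 0 < N := hc_lt 0 (by decide)
    have hfix : ∀ k, k < nsub → evalw (subW k) (c 0) = c 0 := by
      intro k hk
      have hm := subW_mem_Hs k hk
      have h0 : phi (prodw (subW k)) 0 = 0 := stab0.mpr hm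
      have hl : ∀ l ∈ subW k, l < nl := by
        unfold nsub at hk
        interval_cases k <;> decide
      rw [← phi_prodw_apply _ hl, ← hc_all, h0]
    have h := List.all_eq_true.mp fix_ok (c 0) (List.mem_range.mpr hlt)
    rw [Bool.or_eq_true, beq_iff_eq, List.any_eq_true] at h
    rcases h with h | ⟨k, hk, hne⟩
    · exact h
    · exfalso
      rw [List.mem_range] at hk
      rw [bne_iff_ne] at hne
      exact hne (hfix k hk)
  have hc1 : ∀ i, c i = i := by
    intro i
    by_cases hi : i < N
    · obtain ⟨g, hg⟩ := trans0 hi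
      rw [← hg, hc_all, hc0]
    · exact hc_ge i (not_lt.mp hi)
  have hphi : ∀ i, phi h i = piP i := by
    intro i
    have e : piP⁻¹ (phi h i) = i := by rw [← hc, hc1]
    rw [Equiv.Perm.inv_eq_iff_eq] at e
    exact e
  have hHs : h ∈ Hs := by
    apply stab0.mp
    rw [hphi, piP_apply, piF, if_pos (by decide), pi_zero]
  have h46 := phi_cls h hHs 46 (by decide)
  rw [hphi, piP_apply, piF, if_pos (by decide), pi_oid.1, pi_oid.2] at h46
  exact absurd h46 (by decide)

end Cfsg.Agent.Helper14.HeOut
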