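import Mathlib
import Cfsg.Agent.Helper14.HeOut.Cls
import Cfsg.Agent.Helper14.HeOut.Outer
import Cfsg.Agent.Helper22.OutOne

/-!
# The outer automorphism group of the Held group has order two
-/

set_option autoImplicit false
set_option linter.all false

namespace Cfsg.Agent.Helper14.HeOut

open Cfsg.Agent.Helper17 Cfsg.Agent.Helper17.HeTC Cfsg.Agent.Helper19.HeOrd

theorem center_G : Subgroup.center G = ⊥ := by
  haveI := finG
  haveI := isSimple
  exact Cfsg.Agent.Helper22.OutTwo.center_eq_bot_of_simple (by rw [card_G]; norm_num)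

theorem card_out_G : Nat.card (Cfsg.Out G) = 2 := by
  haveI := finG
  exact Cfsg.Agent.Helper14.J3Out.card_out_eq_two center_G card_mulAut_G tauE tauE_not_inner

end Cfsg.Agent.Helper14.HeOut
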